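import Groth.Prelude.Def_ARSys

/-!
The last step of the filtration of an adic system: `F_0 ⟶ F_{n+1} ⟶ F_n ⟶ 0` is exact.
-/

set_option autoImplicit false

universe v u

open CategoryTheory CategoryTheory.Limits Opposite

namespace Groth.Agent.Adic51

variable {C : Type u} [Category.{v} C] [Abelian C]

theorem epi_of_isQuot {I : Ideal ℤ} {X Q : C} {p : X ⟶ Q} (h : ARSys.IsQuot I p) : Epi p :=
  ⟨fun {Y} u v huv => by
    obtain ⟨w, -, hw⟩ := h.2 Y (p ≫ u) (fun a ha => by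
      rw [← Linear.smul_comp, show a • p = p ≫ (a • 𝟙 _) by rw [Linear.comp_smul, Category.comp_id],
        h.1 a ha, comp_zero, zero_comp])
    exact (hw u rfl).trans (hw v huv.symm).symm⟩

/-- If `X_{n+1} ⟶ X_n` is the quotient mod `ℓ^(n+1)`, its kernel is a quotient of `X_0`. -/
theorem exists_exact (ℓ : ℤ) (F : ARSys.PS C) (hF : ARSys.IsAdic (Ideal.span {ℓ}) F) (n : ℕ) :
    ∃ (ψ : F.obj (op 0) ⟶ F.obj (op (n + 1))) (h : ψ ≫ ARSys.tr F (Nat.le_succ n) = 0),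
      (ShortComplex.mk ψ (ARSys.tr F (Nat.le_succ n)) h).Exact ∧ Epi (ARSys.tr F (Nat.le_succ n)) := by
  obtain ⟨hk, hq⟩ := hF
  have hk' : ∀ m, (ℓ ^ (m + 1)) • 𝟙 (F.obj (op m)) = 0 := fun m =>
    hk m (ℓ ^ (m + 1)) (Ideal.pow_mem_pow (Ideal.mem_span_singleton_self ℓ) (m + 1))
  have hq0 := hq 0 (n + 1) (Nat.zero_le _)
  have hp := hq n (n + 1) (Nat.le_succ _)
  have := epi_of_isQuot hq0
  have := epi_of_isQuot hp
  obtain ⟨ψ, hψ, -⟩ := hq0.2 _ ((ℓ ^ (n + 1)) • 𝟙 (F.obj (op (n + 1)))) (fun a ha => by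
    rw [zero_add, pow_one, Ideal.mem_span_singleton'] at ha
    obtain ⟨b, rfl⟩ := ha
    rw [smul_smul, mul_assoc, ← pow_succ', ← smul_smul, hk' (n + 1), smul_zero])
  have hψp : ψ ≫ ARSys.tr F (Nat.le_succ n) = 0 := by
    rw [← cancel_epi (ARSys.tr F (Nat.zero_le (n + 1))), ← Category.assoc, hψ, comp_zero,
      Linear.smul_comp, Category.id_comp]
    calc (ℓ ^ (n + 1)) • ARSys.tr F (Nat.le_succ n)
        = ARSys.tr F (Nat.le_succ n) ≫ ((ℓ ^ (n + 1)) • 𝟙 (F.obj (op n))) := by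
          rw [Linear.comp_smul, Category.comp_id]
      _ = 0 := by rw [hk' n, comp_zero]
  refine ⟨ψ, hψp, ShortComplex.exact_of_g_is_cokernel _ ?_, inferInstance⟩
  have key : ∀ {Y : C} (g : F.obj (op (n + 1)) ⟶ Y), ψ ≫ g = 0 →
      ∃! w : F.obj (op n) ⟶ Y, ARSys.tr F (Nat.le_succ n) ≫ w = g := fun g hg =>
    hp.2 _ g (fun a ha => by
      rw [Ideal.span_singleton_pow, Ideal.mem_span_singleton'] at ha
      obtain ⟨b, rfl⟩ := ha
      have h1 : ((ℓ ^ (n + 1)) • 𝟙 (F.obj (op (n + 1)))) ≫ g = 0 := by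
        rw [← hψ, Category.assoc, hg, comp_zero]
      rw [Linear.smul_comp, Category.id_comp] at h1
      rw [← smul_smul, h1, smul_zero])
  exact CokernelCofork.IsColimit.ofπ _ hψp (fun g hg => (key g hg).choose)
    (fun g hg => (key g hg).choose_spec.1) (fun g hg m hm => (key g hg).choose_spec.2 m hm)

end Groth.Agent.Adic51
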